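import Cfsg.Agent.ChevIsogeny.Pair
import Cfsg.Agent.ChevGroup.Mat.Chain

/-!
Endomorphisms `x_r(t) ↦ x_{ρ r}(ε r * t ^ (λ r * e))` of a Chevalley group from a decidable certificate.
-/

set_option autoImplicit false

namespace Cfsg.Agent.ChevIsogeny

open ChevGroup Cfsg.Lie

/-- A term of a commutator formula: root, coefficient and the two exponents. -/
abbrev Term := ℕ × ℤ × ℕ × ℕ

/-- The combinatorial data of an isogeny. -/
structure IsoData where
  rho : List ℕ
  rhoI : List ℕ
  lam0 : List ℕ
  eps : List ℤ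
  md : ℕ

namespace IsoData

variable (D : ChevalleyDatum) (P : IsoData)

/-- image of a root -/
def ρf (r : ℕ) : ℕ := P.rho.getD r 0

/-- image of a fundamental root -/
def ρIf (i : ℕ) : ℕ := P.rhoI.getD i 0

/-- exponent of a root -/
def lf (r : ℕ) : ℕ := P.lam0.getD r 1

/-- sign of a root -/
def ef (r : ℕ) : ℤ := P.eps.getD r 1

/-- coefficient modulo the characteristic bound -/
def red (z : ℤ) : ℤ := z % (P.md : ℤ)

/-- the image of a term of the formula for `(r, s)` -/
def mapTerm (c : Term) : Term :=
  (P.ρf c.1, P.red (P.ef c.1 * c.2.1), c.2.2.1 * P.lf c.1, c.2.2.2 * P.lf c.1)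

/-- a term of the formula for `(ρ r, ρ s)`, in the parameters of `(r, s)` -/
def imgTerm (r s : ℕ) (c : Term) : Term :=
  (c.1, P.red (c.2.1 * P.ef r ^ c.2.2.1 * P.ef s ^ c.2.2.2), c.2.2.1 * P.lf r, c.2.2.2 * P.lf s)

/-- the non-zero mapped terms -/
def lhsTerms (r s : ℕ) : List Term :=
  ((D.commTerms r s).map P.mapTerm).filter fun c => c.2.1 != 0

/-- the non-zero terms of the image formula -/
def rhsTerms (r s : ℕ) : List Term :=
  ((D.commTerms (P.ρf r) (P.ρf s)).map (P.imgTerm r s)).filter fun c => c.2.1 != 0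

/-- two root groups commute modulo `md` -/
def commuteB (a b : ℕ) : Bool :=
  decide (a = b) || (decide (b ≠ D.neg a) && (D.commTerms a b).all fun c => decide (P.red c.2.1 = 0))

/-- the formulas of `(r, s)` and of `(ρ r, ρ s)` correspond -/
def pairB (r s : ℕ) (ok : ℕ → Bool) : Bool :=
  decide (s ≠ r) && decide (s ≠ D.neg r) &&
  decide (P.ρf s ≠ P.ρf r) && decide (P.ρf s ≠ D.neg (P.ρf r)) &&
  (D.commTerms r s).all (fun c => decide (c.1 < D.nroots) && decide (D.IsPosRoot c.1) && ok c.1) &&
  (D.commTerms (P.ρf r) (P.ρf s)).all (fun c => decide (c.1 < D.nroots)) &&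
  decide ((P.lhsTerms D r s).Perm (P.rhsTerms D r s)) &&
  ((P.rhsTerms D r s).all fun a => (P.rhsTerms D r s).all fun b => P.commuteB D a.1 b.1)

/-- positive roots in increasing order -/
def posL : List ℕ := (List.range D.nroots).filter fun r => decide (D.nroots ≤ 2 * r)

/-- the root permutation and its exponents are compatible with the combinatorics -/
def baseB : Bool :=
  ((List.range D.nroots).all fun r =>
    decide (P.ρf r < D.nroots) &&
    ((List.range D.nroots).any fun s => decide (P.ρf s = r)) &&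
    decide (P.ρf (D.neg r) = D.neg (P.ρf r)) &&
    decide (P.lf (D.neg r) = P.lf r) && decide (0 < P.lf r) &&
    (decide (P.ef r = 1) || decide (P.ef r = -1)) && decide (P.ef (D.neg r) = P.ef r) &&
    (decide (D.IsPosRoot r) == decide (D.IsPosRoot (P.ρf r)))) &&
  ((List.range D.rank).all fun i =>
    decide (P.ρIf i < D.rank) && decide (P.ρf (D.simple i) = D.simple (P.ρIf i)) &&
    decide (P.ef (D.simple i) = 1) &&
    (List.range D.nroots).all fun r =>
      decide (P.ρf (D.reflectRoot i r) = D.reflectRoot (P.ρIf i) (P.ρf r)) &&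
      decide (P.lf (D.reflectRoot i r) = P.lf r))

/-- the pairings correspond -/
def pairingB : Bool :=
  (List.range D.nroots).all fun r => (List.range D.nroots).all fun s =>
    decide (D.pairing (P.ρf r) (P.ρf s) * (P.lf r : ℤ) = D.pairing r s * (P.lf s : ℤ))

/-- the signs correspond -/
def signB (η : ℕ → ℕ → ℤ) : Bool :=
  (List.range D.rank).all fun i => (List.range D.nroots).all fun r =>
    decide (P.red (P.ef (D.reflectRoot i r) * η i r) = P.red (η (P.ρIf i) (P.ρf r) * P.ef r))

/-- the formulas needed with a fundamental first root -/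
def simpleB : Bool :=
  (List.range D.rank).all fun i => (posL D).all fun s =>
    decide (s = D.simple i) || P.pairB D (D.simple i) s fun c => decide (c ≠ D.simple i)

/-- the formulas needed for collection in increasing order -/
def collectB : Bool :=
  (posL D).all fun r => (posL D).all fun s =>
    decide (s ≤ r) || P.pairB D r s fun c => decide (r < c)

end IsoData

/-- The commutator formula as an equation between matrices. -/
def CommFormula (D : ChevalleyDatum) (F : Type*) [Field F] : Prop :=
  ∀ r s, r < D.nroots → s < D.nroots → s ≠ r → s ≠ D.neg r → ∀ t u : F,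
    D.x F s u * D.x F r t = D.x F r t * D.x F s u * D.wordMat F (D.commWord F r s t u)

/-- Everything the endomorphism rests on. -/
structure IsoHyp {D : ChevalleyDatum} (T : Model D) {F : Type*} [Field F] (K : Rels D F)
    (P : IsoData) (e : ℕ) : Prop where
  comm : CommFormula D F
  base : P.baseB D = true
  pairing : P.pairingB D = true
  simple : P.simpleB D = true
  collect : P.collectB D = true
  md : (P.md : F) = 0
  add_pow : ∀ r, r < D.nroots → ∀ a b : F,
    (a + b) ^ (P.lf r * e) = a ^ (P.lf r * e) + b ^ (P.lf r * e)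
  int_pow : ∀ r, r < D.nroots → ∀ z : ℤ, (z : F) ^ (P.lf r * e) = z
  sign : ∃ η : ℕ → ℕ → ℤ, P.signB D η = true ∧
    ∀ i r, i < D.rank → r < D.nroots → K.eta i r = (η i r : F)

namespace IsoHyp

variable {D : ChevalleyDatum} {T : Model D} {F : Type*} [Field F] {K : Rels D F}

variable (T K) in
/-- `x_r(t)` for a natural number index -/
def xN (r : ℕ) (t : F) : ↥(D.group F) :=
  if h : r < T.tab.n then T.xG K ⟨r, h⟩ t else 1

theorem mat_xN (r : ℕ) (t : F) : Model.mat (xN T K r t) = D.x F r t := by
  rw [xN]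
  split_ifs with h
  · exact T.mat_xG K _ t
  · rw [T.n_eq] at h
    simp [Model.mat, ChevalleyDatum.x, h]

theorem xN_val (r : Fin T.tab.n) (t : F) : xN T K r.val t = (T.rel K).x r t := by
  rw [xN, dif_pos r.isLt]; rfl

theorem xN_zero (r : ℕ) : xN T K r 0 = 1 := by
  rw [xN]
  split_ifs with h
  · exact (T.rel K).x_zero _
  · rfl

variable (T K) in
/-- the value of a term -/
def val (t u : F) (c : Term) : ↥(D.group F) :=
  xN T K c.1 ((c.2.1 : F) * t ^ c.2.2.1 * u ^ c.2.2.2)

theorem conj_eq (hc : CommFormula D F) {r s : ℕ} (hr : r < D.nroots) (hs : s < D.nroots)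
    (h1 : s ≠ r) (h2 : s ≠ D.neg r) (t u : F) :
    xN T K r t * xN T K s u * xN T K r (-t) =
      xN T K s u * ((D.commTerms r s).map (val T K t u)).prod := by
  have hw : ∀ l : List Term, Model.mat ((l.map (val T K t u)).prod) =
      D.wordMat F (l.map fun c => (c.1, (c.2.1 : F) * t ^ c.2.2.1 * u ^ c.2.2.2)) := by
    intro l
    induction l with
    | nil => simp [Model.mat, ChevalleyDatum.wordMat]
    | cons c l ih =>
      simp only [ChevalleyDatum.wordMat, List.map_cons, List.prod_cons] at ih ⊢
      rw [Model.mat_mul, ih, val, mat_xN]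
  have key : xN T K s u * xN T K r (-t) =
      xN T K r (-t) * xN T K s u * ((D.commTerms r s).map (val T K t u)).prod := by
    apply Model.mat_inj
    rw [Model.mat_mul, Model.mat_mul, Model.mat_mul, mat_xN, mat_xN, hw, hc r s hr hs h1 h2]
    simp only [ChevalleyDatum.commWord, neg_neg]
  have hinv : xN T K r t * xN T K r (-t) = 1 := by
    rw [xN, xN, dif_pos (T.n_eq.symm ▸ hr), dif_pos (T.n_eq.symm ▸ hr)]
    show (T.rel K).x _ t * (T.rel K).x _ (-t) = 1
    rw [← (T.rel K).x_add, add_neg_cancel, (T.rel K).x_zero]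
  rw [mul_assoc, key, ← mul_assoc, ← mul_assoc, hinv, one_mul]

variable {P : IsoData} {e : ℕ} (h : IsoHyp T K P e)

/-- the exponent of a root -/
def lam (P : IsoData) (e r : ℕ) : ℕ := P.lf r * e

variable (T K P e) in
/-- the paired element -/
def pair (r : ℕ) (t : F) : ↥(D.group F) × ↥(D.group F) :=
  (xN T K r t, xN T K (P.ρf r) ((P.ef r : F) * t ^ lam P e r))

include h in
theorem red_cast (z : ℤ) : ((P.red z : ℤ) : F) = z := by
  have e1 := Int.mul_ediv_add_emod z (P.md : ℤ)
  conv_rhs => rw [← e1]
  simp [IsoData.red, h.md]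

theorem prod_filter {L : List Term} (f : Term → ↥(D.group F))
    (hf : ∀ c, c.2.1 = 0 → f c = 1) :
    ((L.filter fun c => c.2.1 != 0).map f).prod = (L.map f).prod := by
  induction L with
  | nil => rfl
  | cons c L ih =>
    by_cases hc : c.2.1 = 0
    · simp [hc, hf c hc, ih]
    · simp [hc, ih]

include h in
theorem commute_of {a b : ℕ} (ha : a < D.nroots) (hb : b < D.nroots)
    (hc : P.commuteB D a b = true) (x y : F) : Commute (xN T K a x) (xN T K b y) := by
  have hadd : ∀ c : F, ∀ d : F, xN T K a c * xN T K a d = xN T K a (c + d) := fun c d => by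
    rw [xN, xN, xN, dif_pos (T.n_eq.symm ▸ ha), dif_pos (T.n_eq.symm ▸ ha), dif_pos (T.n_eq.symm ▸ ha)]
    exact ((T.rel K).x_add _ c d).symm
  simp only [IsoData.commuteB, Bool.or_eq_true, Bool.and_eq_true, decide_eq_true_eq,
    List.all_eq_true] at hc
  by_cases hab : b = a
  · subst hab
    show _ * _ = _ * _
    rw [hadd, hadd, add_comm]
  · obtain ⟨hn, hz⟩ := hc.resolve_left (fun e => hab e.symm)
    have e1 := conj_eq (K := K) (T := T) h.comm ha hb hab hn x y
    have : ((D.commTerms a b).map (val T K x y)).prod = 1 := by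
      refine List.prod_eq_one fun g hg => ?_
      obtain ⟨c, hc, rfl⟩ := List.mem_map.1 hg
      rw [val, ← h.red_cast, hz c hc]
      simp [xN_zero]
    rw [this, mul_one] at e1
    have e2 := congrArg (· * xN T K a x) e1
    simp only [mul_assoc, hadd, neg_add_cancel, xN_zero, mul_one] at e2
    exact e2

include h in
theorem pair_conj {r s : ℕ} (hr : r < D.nroots) (hs : s < D.nroots) {ok : ℕ → Bool}
    (hp : P.pairB D r s ok = true) (t u : F) :
    pair T K P e r t * pair T K P e s u * pair T K P e r (-t) =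
      pair T K P e s u *
        ((D.commTerms r s).map fun c =>
          pair T K P e c.1 ((c.2.1 : F) * t ^ c.2.2.1 * u ^ c.2.2.2)).prod := by
  simp only [IsoData.pairB, Bool.and_eq_true, decide_eq_true_eq, List.all_eq_true] at hp
  obtain ⟨⟨⟨⟨⟨⟨⟨h1, h2⟩, h3⟩, h4⟩, hok⟩, hlt⟩, hperm⟩, hcomm⟩ := hp
  have hb := h.base
  simp only [IsoData.baseB, Bool.and_eq_true, List.all_eq_true, List.mem_range,
    decide_eq_true_eq] at hb
  have hρr : P.ρf r < D.nroots := ((hb.1 r hr).1.1.1.1.1.1.1)
  have hρs : P.ρf s < D.nroots := ((hb.1 s hs).1.1.1.1.1.1.1)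
  have hneg : ∀ a : F, (-a) ^ lam P e r = -(a ^ lam P e r) := by
    intro a
    have := h.add_pow r hr a (-a)
    rw [add_neg_cancel] at this
    have h0 : (0 : F) ^ (P.lf r * e) = 0 := by
      have := h.int_pow r hr 0
      rwa [Int.cast_zero] at this
    rw [h0] at this
    exact eq_neg_of_add_eq_zero_right this.symm
  have hfst : ∀ l : List (↥(D.group F) × ↥(D.group F)), l.prod.1 = (l.map Prod.fst).prod := fun l =>
    map_list_prod (MonoidHom.fst _ _) l
  have hsnd : ∀ l : List (↥(D.group F) × ↥(D.group F)), l.prod.2 = (l.map Prod.snd).prod := fun l =>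
    map_list_prod (MonoidHom.snd _ _) l
  refine Prod.ext ?_ ?_
  · simp only [Prod.fst_mul, hfst, List.map_map]
    exact conj_eq h.comm hr hs h1 h2 t u
  · simp only [Prod.snd_mul, hsnd, List.map_map]
    simp only [pair, hneg, mul_neg]
    rw [conj_eq h.comm hρr hρs h3 h4]
    congr 1
    set U := u ^ e with hU
    set V := t ^ e with hV
    have hz : ∀ c : Term, c.2.1 = 0 → val T K V U c = 1 := fun c hc => by
      simp [val, hc, xN_zero]
    have hL : (D.commTerms r s).map (Prod.snd ∘ fun c =>
        pair T K P e c.1 ((c.2.1 : F) * t ^ c.2.2.1 * u ^ c.2.2.2)) =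
        ((D.commTerms r s).map P.mapTerm).map (val T K V U) := by
      rw [List.map_map]
      refine List.map_congr_left fun c hc => ?_
      have hc1 := (hok c hc).1.1
      have hC := h.int_pow c.1 hc1 c.2.1
      simp only [Function.comp_apply, pair, val, IsoData.mapTerm, h.red_cast, Int.cast_mul, lam, hU, hV]
      congr 1
      rw [mul_pow ((c.2.1 : F) * t ^ c.2.2.1), mul_pow (c.2.1 : F), hC, ← pow_mul, ← pow_mul, ← pow_mul,
        ← pow_mul]
      ring_nf
    have hR : (D.commTerms (P.ρf r) (P.ρf s)).map (val T K ((P.ef r : F) * t ^ lam P e r)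
        ((P.ef s : F) * u ^ lam P e s)) =
        ((D.commTerms (P.ρf r) (P.ρf s)).map (P.imgTerm r s)).map (val T K V U) := by
      rw [List.map_map]
      refine List.map_congr_left fun c _ => ?_
      simp only [Function.comp_apply, val, IsoData.imgTerm, h.red_cast, Int.cast_mul, Int.cast_pow,
        lam, hU, hV, mul_pow, ← pow_mul]
      congr 1
      ring_nf
    simp only [pair] at hL
    rw [hL, hR, ← prod_filter (val T K V U) hz, ← prod_filter
      (L := (D.commTerms r s).map P.mapTerm) (val T K V U) hz]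
    change ((P.rhsTerms D r s).map (val T K V U)).prod = ((P.lhsTerms D r s).map (val T K V U)).prod
    refine List.Perm.prod_eq' (hperm.symm.map _) ?_
    have key : ∀ a ∈ (P.rhsTerms D r s).map (val T K V U), ∀ b ∈ (P.rhsTerms D r s).map (val T K V U),
        Commute a b := by
      intro a' ha b' hb'
      obtain ⟨a, ha2, rfl⟩ := List.mem_map.1 ha
      obtain ⟨b, hb2, rfl⟩ := List.mem_map.1 hb'
      have hmem : ∀ c ∈ P.rhsTerms D r s, c.1 < D.nroots := by
        intro c hc
        obtain ⟨c', hc', rfl⟩ := List.mem_map.1 (List.mem_filter.1 hc).1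
        exact hlt c' hc'
      exact h.commute_of (hmem a ha2) (hmem b hb2) (hcomm a ha2 b hb2) _ _
    exact (List.Pairwise.imp_of_mem (fun {x y} hx hy _ => key x hx y hy)
      (List.pairwise_of_forall (R := fun _ _ => True) fun _ _ => trivial))

end IsoHyp

end Cfsg.Agent.ChevIsogeny
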