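import Cfsg.Agent.Lib.ChevCore.Elements

/-!
Equality of two words in root elements with integer parameters, over every field in which a given number
vanishes, from a check on sparse vectors.
-/

set_option autoImplicit false

namespace Cfsg.Agent.ChevIsogeny

open Cfsg.Lie Cfsg.Agent.ChevCore

/-- collect the coefficients modulo `md` -/
noncomputable def normVec (N md : ℕ) (L : SVec) : SVec :=
  (List.range N).filterMap fun a =>
    bif zIsZero (keySum a L % (md : ℤ)) then none else some (a, keySum a L % (md : ℤ))

variable (D : ChevalleyDatum)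

/-- a word applied to a sparse vector -/
noncomputable def applyWord (A : Acc) (md : ℕ) (w : List (ℕ × ℤ)) (L : SVec) : SVec :=
  w.foldr (fun p acc => forceS acc fun acc => normVec (D.nroots + D.rank) md (applyX D A p.1 p.2 acc))
    (normVec (D.nroots + D.rank) md L)

/-- the two words act in the same way modulo `md` -/
noncomputable def wordEqB (A : Acc) (md : ℕ) (w₁ w₂ : List (ℕ × ℤ)) : Bool :=
  (w₁.all fun p => Nat.blt p.1 D.nroots) && (w₂.all fun p => Nat.blt p.1 D.nroots) &&
  kallUpTo (D.nroots + D.rank) fun v =>
    eqS (applyWord D A md w₁ [(v, 1)]) (applyWord D A md w₂ [(v, 1)])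

variable {D} {R : Type*} [CommRing R]

theorem vec_normVec {md : ℕ} (hmd : (md : R) = 0) (L : SVec) :
    vec D R (normVec (D.nroots + D.rank) md L) = vec D R L := by
  funext b
  have hred : ∀ z : ℤ, ((z % (md : ℤ) : ℤ) : R) = z := fun z => by
    conv_rhs => rw [← Int.mul_ediv_add_emod z (md : ℤ)]
    simp [hmd]
  have hb : ((keySum (code D b) L : ℤ) : R) = vec D R L b := by
    rw [keySum_eq, ← vec_map_cast]
  have key : ∀ N, vec D R (normVec N md L) b = if code D b < N then vec D R L b else 0 := by
    intro N
    induction N with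
    | zero => simp [normVec]
    | succ N ih =>
      rw [normVec, List.range_succ, List.filterMap_append, vec_append, Pi.add_apply]
      rw [normVec] at ih
      rw [ih]
      by_cases hN : N = code D b
      · subst hN
        rw [if_neg (lt_irrefl _), if_pos (Nat.lt_succ_self _), zero_add]
        by_cases hz : zIsZero (keySum (code D b) L % (md : ℤ)) = true
        · have : ((keySum (code D b) L % (md : ℤ) : ℤ) : R) = 0 := by
            rw [zIsZero_iff.1 hz, Int.cast_zero]
          rw [hred, hb] at this
          simp [hz, this]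
        · simp only [Bool.not_eq_true] at hz
          simp [hz, vec_cons, hred, hb]
      · have h1 : (code D b < N + 1) ↔ (code D b < N) :=
          ⟨fun h => by omega, fun h => by omega⟩
        simp only [h1]
        refine add_eq_left.2 ?_
        cases hz : zIsZero (keySum N L % (md : ℤ)) <;> simp [hz, vec_cons, hN]
  rw [key, if_pos (code_lt D b)]

theorem vec_applyX_cast (r : ℕ) (z : ℤ) (L : SVec) :
    vec D R (applyX D (std D) r z L) = Matrix.mulVec (xR D R r (z : R)) (vec D R L) := by
  funext a
  rw [vec_map_cast, vec_applyX]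
  have e := RingHom.map_mulVec (Int.castRingHom R) (xR D ℤ r z) (vec D ℤ L) a
  simp only [eq_intCast] at e
  rw [e]
  refine congrArg₂ (fun M v => Matrix.mulVec M v a) ?_ (funext fun b => (vec_map_cast D L b).symm)
  have := xR_map D (Int.castRingHom R) r z
  simpa using this

/-- Words that pass the check give equal matrices. -/
theorem wordMat_eq_of_check (hD : Good D) {P : Packed} (hP : chkLink D P = true) {md : ℕ}
    {w₁ w₂ : List (ℕ × ℤ)} (h : wordEqB D (fast D P) md w₁ w₂ = true) (F : Type*) [Field F]
    (hmd : (md : F) = 0) :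
    D.wordMat F (w₁.map fun p => (p.1, (p.2 : F))) = D.wordMat F (w₂.map fun p => (p.1, (p.2 : F))) := by
  rw [(fast_eq_std hP).1] at h
  simp only [wordEqB, Bool.and_eq_true, List.all_eq_true, Nat.blt_eq, kallUpTo_iff] at h
  obtain ⟨⟨hw1, hw2⟩, hv⟩ := h
  have key : ∀ w : List (ℕ × ℤ), (∀ p ∈ w, p.1 < D.nroots) → ∀ L : SVec,
      vec D F (applyWord D (std D) md w L) =
        Matrix.mulVec (D.wordMat F (w.map fun p => (p.1, (p.2 : F)))) (vec D F L) := by
    intro w hw L
    induction w with
    | nil => simp [applyWord, vec_normVec hmd, ChevalleyDatum.wordMat]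
    | cons p w ih =>
      have ih' := ih fun q hq => hw q (List.mem_cons_of_mem _ hq)
      simp only [applyWord, List.foldr_cons, forceS_eq, ChevalleyDatum.wordMat, List.map_cons,
        List.prod_cons] at ih' ⊢
      rw [vec_normVec hmd, vec_applyX_cast, ih', Matrix.mulVec_mulVec,
        hD.x_eq F (hw p (List.mem_cons_self ..))]
  refine matrix_ext_col D fun b => ?_
  rw [← vec_basis D b, ← key w₁ hw1, ← key w₂ hw2]
  exact vec_eq_of_eqS D (hv (code D b) (code_lt D b))

end Cfsg.Agent.ChevIsogeny
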