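import Cfsg.Agent.ChevIsogeny.Auto
import Cfsg.Agent.ChevIsogeny.Types.B2
import Cfsg.Agent.ChevIsogeny.Types.F4
import Cfsg.Agent.ChevIsogeny.Types.G2
import Cfsg.Agent.Twisted.Inst
import Cfsg.Agent.ChevGroup.Mat.B2
import Cfsg.Agent.ChevGroup.Mat.F4
import Cfsg.Agent.ChevGroup.Mat.G2

/-!
The special automorphisms of B2, F4 and G2.
-/

set_option autoImplicit false

namespace Cfsg.Agent.ChevIsogeny

open Cfsg.Lie ChevGroup

theorem etaB2 : Twisted.etaTabB chevB2 ChevCore.packedB2 B2.eta := by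
  unfold Twisted.etaTabB
  decide +kernel

theorem etaF4 : Twisted.etaTabB chevF4 ChevCore.packedF4 F4.eta := by
  unfold Twisted.etaTabB
  decide +kernel

theorem etaG2 : Twisted.etaTabB chevG2 ChevCore.packedG2 G2.eta := by
  unfold Twisted.etaTabB
  decide +kernel

theorem auto_B2 {F : Type*} [Field F] [CharP F 2] (hperf : ∀ x : F, ∃ y : F, y ^ 2 = x) :
    ∃ α : ↥(chevB2.group F) ≃* ↥(chevB2.group F), ∀ (r : ℕ) (_ : r < chevB2.nroots)
      (g : ↥(chevB2.group F)) (t : F), ((g : GL chevB2.Idx F) : Matrix chevB2.Idx chevB2.Idx F) = chevB2.x F r t →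
      ((α g : GL chevB2.Idx F) : Matrix chevB2.Idx chevB2.Idx F) = chevB2.x F (B2.iso.ρf r) (t ^ B2.iso.lf r) := by
  haveI := Fact.mk Nat.prime_two
  have hlf : ∀ r, r < chevB2.nroots → B2.iso.lf r = 1 ∨ B2.iso.lf r = 2 := by decide +kernel
  exact exists_auto (T := ChevGroup.TypeB2.model) (K := relsOfCommGood ChevCore.commGoodB2 F) hperf
    (isoHyp_one (p := 2) (Twisted.commFormula ChevCore.commGoodB2 F) B2.base B2.pairing B2.simple B2.collect
      rfl hlf B2.sign (Twisted.eta_link ChevCore.commGoodB2 F ChevCore.chkLinkB2 etaB2))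
    (by decide +kernel) hlf ChevGroup.TypeB2.wit_ok ChevGroup.TypeB2.pos_span
    (uniqueForm_any ⟨ChevCore.commGoodB2.toGood, ChevGroup.TypeB2.shape⟩ (by decide +kernel))

theorem auto_F4 {F : Type*} [Field F] [CharP F 2] (hperf : ∀ x : F, ∃ y : F, y ^ 2 = x) :
    ∃ α : ↥(chevF4.group F) ≃* ↥(chevF4.group F), ∀ (r : ℕ) (_ : r < chevF4.nroots)
      (g : ↥(chevF4.group F)) (t : F), ((g : GL chevF4.Idx F) : Matrix chevF4.Idx chevF4.Idx F) = chevF4.x F r t →
      ((α g : GL chevF4.Idx F) : Matrix chevF4.Idx chevF4.Idx F) = chevF4.x F (F4.iso.ρf r) (t ^ F4.iso.lf r) := by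
  haveI := Fact.mk Nat.prime_two
  have hlf : ∀ r, r < chevF4.nroots → F4.iso.lf r = 1 ∨ F4.iso.lf r = 2 := by decide +kernel
  exact exists_auto (T := ChevGroup.TypeF4.model) (K := relsOfCommGood ChevCore.commGoodF4 F) hperf
    (isoHyp_one (p := 2) (Twisted.commFormula ChevCore.commGoodF4 F) F4.base F4.pairing F4.simple F4.collect
      rfl hlf F4.sign (Twisted.eta_link ChevCore.commGoodF4 F ChevCore.chkLinkF4 etaF4))
    (by decide +kernel) hlf ChevGroup.TypeF4.wit_ok ChevGroup.TypeF4.pos_span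
    (uniqueForm_any ⟨ChevCore.commGoodF4.toGood, ChevGroup.TypeF4.shape⟩ (by decide +kernel))

theorem auto_G2 {F : Type*} [Field F] [CharP F 3] (hperf : ∀ x : F, ∃ y : F, y ^ 3 = x) :
    ∃ α : ↥(chevG2.group F) ≃* ↥(chevG2.group F), ∀ (r : ℕ) (_ : r < chevG2.nroots)
      (g : ↥(chevG2.group F)) (t : F), ((g : GL chevG2.Idx F) : Matrix chevG2.Idx chevG2.Idx F) = chevG2.x F r t →
      ((α g : GL chevG2.Idx F) : Matrix chevG2.Idx chevG2.Idx F) = chevG2.x F (G2.iso.ρf r) (t ^ G2.iso.lf r) := by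
  haveI := Fact.mk Nat.prime_three
  have hlf : ∀ r, r < chevG2.nroots → G2.iso.lf r = 1 ∨ G2.iso.lf r = 3 := by decide +kernel
  exact exists_auto (T := ChevGroup.TypeG2.model) (K := relsOfCommGood ChevCore.commGoodG2 F) hperf
    (isoHyp_one (p := 3) (Twisted.commFormula ChevCore.commGoodG2 F) G2.base G2.pairing G2.simple G2.collect
      rfl hlf G2.sign (Twisted.eta_link ChevCore.commGoodG2 F ChevCore.chkLinkG2 etaG2))
    (by decide +kernel) hlf ChevGroup.TypeG2.wit_ok ChevGroup.TypeG2.pos_span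
    (uniqueForm_any ⟨ChevCore.commGoodG2.toGood, ChevGroup.TypeG2.shape⟩ (by decide +kernel))

end Cfsg.Agent.ChevIsogeny
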