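import Cfsg.Agent.ChevIsogeny.Check

/-!
The endomorphism given by a checked certificate.
-/

set_option autoImplicit false

namespace Cfsg.Agent.ChevIsogeny

open ChevGroup Cfsg.Lie

namespace IsoHyp

variable {D : ChevalleyDatum} {T : Model D} {F : Type*} [Field F] {K : Rels D F}
  {P : IsoData} {e : ℕ} (h : IsoHyp T K P e)

include h in
theorem base_root {r : ℕ} (hr : r < D.nroots) :
    P.ρf r < D.nroots ∧ P.ρf (D.neg r) = D.neg (P.ρf r) ∧ P.lf (D.neg r) = P.lf r ∧ 0 < P.lf r ∧
      (P.ef r = 1 ∨ P.ef r = -1) ∧ P.ef (D.neg r) = P.ef r ∧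
      (D.IsPosRoot r ↔ D.IsPosRoot (P.ρf r)) ∧ ∃ s < D.nroots, P.ρf s = r := by
  have hb := h.base
  simp only [IsoData.baseB, Bool.and_eq_true, List.all_eq_true, List.mem_range, decide_eq_true_eq,
    Bool.or_eq_true, List.any_eq_true, beq_iff_eq, decide_eq_decide] at hb
  obtain ⟨⟨⟨⟨⟨⟨⟨h1, h2⟩, h3⟩, h4⟩, h5⟩, h6⟩, h7⟩, h8⟩ := hb.1 r hr
  exact ⟨h1, h3, h4, h5, h6, h7, h8, h2⟩

include h in
theorem base_simple {i : ℕ} (hi : i < D.rank) :
    P.ρIf i < D.rank ∧ P.ρf (D.simple i) = D.simple (P.ρIf i) ∧ P.ef (D.simple i) = 1 ∧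
      ∀ r < D.nroots, P.ρf (D.reflectRoot i r) = D.reflectRoot (P.ρIf i) (P.ρf r) ∧
        P.lf (D.reflectRoot i r) = P.lf r := by
  have hb := h.base
  simp only [IsoData.baseB, Bool.and_eq_true, List.all_eq_true, List.mem_range, decide_eq_true_eq,
    Bool.or_eq_true, List.any_eq_true, beq_iff_eq] at hb
  obtain ⟨⟨⟨h1, h2⟩, h3⟩, h4⟩ := hb.2 i hi
  exact ⟨h1, h2, h3, fun r hr => ⟨(h4 r hr).1, (h4 r hr).2⟩⟩

/-- the permutation of the roots -/
def ρF (r : Fin T.tab.n) : Fin T.tab.n :=
  ⟨P.ρf r.val, lt_of_lt_of_eq (h.base_root (T.lt r)).1 T.n_eq.symm⟩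

/-- the permutation of the fundamental roots -/
def ρIF (i : Fin T.tab.l) : Fin T.tab.l :=
  ⟨P.ρIf i.val, lt_of_lt_of_eq (h.base_simple (T.lt_l i)).1 T.l_eq.symm⟩

theorem ρF_simple (i : Fin T.tab.l) : h.ρF (T.S.simple i) = T.S.simple (h.ρIF i) := by
  apply Fin.ext
  show P.ρf (T.S.simple i).val = _
  rw [T.simple_eq, T.simple_eq]
  exact (h.base_simple (T.lt_l i)).2.1

theorem ρF_pos (r : Fin T.tab.n) : T.S.pos (h.ρF r) ↔ T.S.pos r := by
  rw [T.pos_val, T.pos_val]
  exact (h.base_root (T.lt r)).2.2.2.2.2.2.1.symm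

theorem ρF_neg (r : Fin T.tab.n) : h.ρF (T.S.neg r) = T.S.neg (h.ρF r) := by
  apply Fin.ext
  show P.ρf (T.S.neg r).val = _
  rw [T.neg_eq, T.neg_eq]
  exact (h.base_root (T.lt r)).2.1

include h in
theorem mem_posL {r : Fin T.tab.n} (hr : T.S.pos r) : r.val ∈ IsoData.posL D := by
  refine List.mem_filter.2 ⟨List.mem_range.2 (T.lt r), decide_eq_true ?_⟩
  exact (T.pos_iff (T.lt r)).1 ((T.pos_val r).1 hr)

theorem pair_eq (r : Fin T.tab.n) (t : F) :
    ((T.rel K).x r t, (T.rel K).x (h.ρF r) ((P.ef r.val : F) * t ^ lam P e r.val)) =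
      pair T K P e r.val t := by
  rw [pair, ← xN_val, ← xN_val]
  rfl

include h in
theorem conj_mem {r s : Fin T.tab.n} {ok : ℕ → Bool} (hp : P.pairB D r.val s.val ok = true) (t u : F)
    (Q : Fin T.tab.n → Prop) (hQ : ∀ c : Fin T.tab.n, T.S.pos c → ok c.val = true → Q c) (hs : Q s) :
    pair T K P e r.val t * pair T K P e s.val u * pair T K P e r.val (-t) ∈
      Subgroup.closure {y | ∃ c v, Q c ∧
        y = ((T.rel K).x c v, (T.rel K).x (h.ρF c) ((P.ef c.val : F) * v ^ lam P e c.val))} := by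
  rw [h.pair_conj (T.lt r) (T.lt s) hp]
  refine mul_mem (Subgroup.subset_closure ⟨s, u, hs, (h.pair_eq s u).symm⟩) ?_
  refine Subgroup.list_prod_mem _ fun y hy => ?_
  obtain ⟨c, hc, rfl⟩ := List.mem_map.1 hy
  simp only [IsoData.pairB, Bool.and_eq_true, decide_eq_true_eq, List.all_eq_true] at hp
  obtain ⟨⟨hlt, hpos⟩, hok⟩ := hp.1.1.1.2 c hc
  let c' : Fin T.tab.n := ⟨c.1, T.n_eq.symm ▸ hlt⟩
  exact Subgroup.subset_closure
    ⟨c', _, hQ c' ((T.pos_val c').2 hpos) hok, (h.pair_eq c' _).symm⟩

include h in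
theorem neg_pow' {r : ℕ} (hr : r < D.nroots) (a : F) :
    (-a) ^ lam P e r = -(a ^ lam P e r) := by
  have := h.add_pow r hr a (-a)
  rw [add_neg_cancel] at this
  have h0 := h.int_pow r hr 0
  rw [Int.cast_zero] at h0
  rw [h0] at this
  exact eq_neg_of_add_eq_zero_right this.symm

/-- The isogeny datum. -/
def datum : Datum (T.rel K) where
  ρ := h.ρF
  ρI := h.ρIF
  lam r := lam P e r.val
  eps r := (P.ef r.val : F)
  eps_sq r := by
    rcases (h.base_root (T.lt r)).2.2.2.2.1 with e1 | e1 <;> simp [e1]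
  eps_neg r := by rw [T.neg_eq, (h.base_root (T.lt r)).2.2.2.2.2.1]
  eps_simple i := by rw [T.simple_eq, (h.base_simple (T.lt_l i)).2.2.1]; simp
  ρ_surj r := by
    obtain ⟨s, hs, e1⟩ := (h.base_root (T.lt r)).2.2.2.2.2.2.2
    exact ⟨⟨s, T.n_eq.symm ▸ hs⟩, Fin.ext e1⟩
  ρ_neg := h.ρF_neg
  ρ_simple := h.ρF_simple
  ρ_refl i r := by
    apply Fin.ext
    show P.ρf (T.S.refl i r).val = _
    rw [T.refl_eq, T.refl_eq]
    exact ((h.base_simple (T.lt_l i)).2.2.2 r.val (T.lt r)).1
  lam_neg r := by simp only [lam]; rw [T.neg_eq, (h.base_root (T.lt r)).2.2.1]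
  lam_refl i r := by
    simp only [lam]; rw [T.refl_eq, ((h.base_simple (T.lt_l i)).2.2.2 r.val (T.lt r)).2]
  add_pow r := h.add_pow r.val (T.lt r)
  neg_pow r := h.neg_pow' (T.lt r)
  sgn_eq i r := by
    obtain ⟨η, hη, hK⟩ := h.sign
    have hs := hη
    simp only [IsoData.signB, List.all_eq_true, List.mem_range, decide_eq_true_eq] at hs
    have e1 := congrArg (Int.cast : ℤ → F) (hs i.val (T.lt_l i) r.val (T.lt r))
    rw [h.red_cast, h.red_cast] at e1
    show (P.ef (T.S.refl i r).val : F) * K.eta i.val r.val ^ lam P e r.val =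
      K.eta (h.ρIF i).val (h.ρF r).val * (P.ef r.val : F)
    rw [hK _ _ (T.lt_l i) (T.lt r), hK _ _ (T.lt_l _) (T.lt _), lam, h.int_pow _ (T.lt r),
      T.refl_eq]
    exact_mod_cast e1
  pw r s := D.pairing r.val s.val
  scale_conj r c s t hc := by
    rw [mul_inv_eq_iff_eq_mul]
    apply Model.mat_inj
    show Model.mat (hOf T.S.neg (T.xG K) r c * T.xG K s t) =
      Model.mat (T.xG K s (c ^ D.pairing r.val s.val * t) * hOf T.S.neg (T.xG K) r c)
    rw [Model.mat_mul, Model.mat_mul, T.mat_hOf, T.mat_xG, T.mat_xG]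
    exact K.h_conj _ _ (T.lt r) (T.lt s) c t hc
  pw_eq r s := by
    have hp := h.pairing
    simp only [IsoData.pairingB, List.all_eq_true, List.mem_range, decide_eq_true_eq] at hp
    have := hp r.val (T.lt r) s.val (T.lt s)
    simp only [lam, Nat.cast_mul]
    show D.pairing (P.ρf r.val) (P.ρf s.val) * _ = _
    rw [← mul_assoc, this]; ring
  comm i s t u hs hne := by
    have hsB := h.simple
    simp only [IsoData.simpleB, List.all_eq_true, List.mem_range, Bool.or_eq_true,
      decide_eq_true_eq] at hsB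
    have hne' : s.val ≠ D.simple i.val := fun e1 => hne (Fin.ext (by rw [e1, T.simple_eq]))
    have hp := (hsB i.val (T.lt_l i) s.val (h.mem_posL hs)).resolve_left hne'
    rw [← T.simple_eq] at hp
    have hmem := h.conj_mem (r := T.S.simple i) (s := s) hp t u
      (fun c => T.S.pos c ∧ c ≠ T.S.simple i)
      (fun c hc hok => ⟨hc, fun e1 => by
        simp only [decide_eq_true_eq] at hok
        exact hok (by rw [e1])⟩) ⟨hs, hne⟩
    rw [← h.pair_eq, ← h.pair_eq, ← h.pair_eq] at hmem
    have he : (P.ef (T.S.simple i).val : F) = 1 := by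
      rw [T.simple_eq, (h.base_simple (T.lt_l i)).2.2.1]; simp
    simp only [Prod.mk_mul_mk, he, one_mul, h.ρF_simple] at hmem
    convert hmem using 2
    simp only [uOther, and_assoc]

/-- the ordered list of positive roots -/
def posList' (T : Model D) : List (Fin T.tab.n) := T.posList

include h in
theorem mem_posList {r : Fin T.tab.n} (hr : T.S.pos r) : r ∈ T.posList :=
  List.mem_filter.2 ⟨List.mem_finRange r, decide_eq_true hr⟩

include h in
theorem pairX_eq (r : Fin T.tab.n) (t : F) : h.datum.pairX r t = pair T K P e r.val t :=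
  h.pair_eq r t

include h in
theorem collects : ∀ L : List (Fin T.tab.n), L.Sublist T.posList →
    (∀ r ∈ L, ∀ c : Fin T.tab.n, T.S.pos c → r.val < c.val → c ∈ L) →
    L.Pairwise (fun a b => a.val < b.val) → Collects h.datum.pairX L := by
  intro L
  induction L with
  | nil => intro _ _ _; trivial
  | cons r L ih =>
    intro hsub hup hinc
    rw [List.pairwise_cons] at hinc
    refine ⟨ih ((List.sublist_cons_self r L).trans hsub) (fun a ha c hc hac => ?_) hinc.2,
      fun s hs t u => ?_⟩
    · rcases List.mem_cons.1 (hup a (List.mem_cons_of_mem _ ha) c hc hac) with rfl | h'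
      · exact absurd (hinc.1 a ha) (by omega)
      · exact h'
    · have hr : T.S.pos r := by
        exact of_decide_eq_true (List.mem_filter.1 (hsub.subset (List.mem_cons_self ..))).2
      have hsp : T.S.pos s := by
        exact of_decide_eq_true (List.mem_filter.1 (hsub.subset (List.mem_cons_of_mem _ hs))).2
      have hrs := hinc.1 s hs
      have hc := h.collect
      simp only [IsoData.collectB, List.all_eq_true, Bool.or_eq_true, decide_eq_true_eq] at hc
      have hp := (hc r.val (h.mem_posL hr) s.val (h.mem_posL hsp)).resolve_left (by omega)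
      have hmem := h.conj_mem (r := r) (s := s) hp t u (fun c => c ∈ L)
        (fun c hc hok => by
          simp only [decide_eq_true_eq] at hok
          rcases List.mem_cons.1 (hup r (List.mem_cons_self ..) c hc hok) with rfl | h'
          · omega
          · exact h') hs
      have hinv : (h.datum.pairX r t)⁻¹ = h.datum.pairX r (-t) := (h.datum.rel.x_neg r t).symm
      rw [hinv, h.pairX_eq, h.pairX_eq, h.pairX_eq]
      refine Subgroup.closure_mono ?_ hmem
      rintro _ ⟨c, v, hc', rfl⟩
      exact ⟨c, hc', v, rfl⟩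

theorem ordProd_zip {A : Type*} [Group A] {Φ : Type*} (y : Φ → F → A) : ∀ (L : List Φ) (g : A),
    OrdProd y L g → ∃ ts : List F, ts.length = L.length ∧ g = (List.zipWith y L ts).prod := by
  intro L
  induction L with
  | nil => intro g hg; exact ⟨[], rfl, by simpa [OrdProd] using hg⟩
  | cons r L ih =>
    rintro g ⟨t, g', hg', rfl⟩
    obtain ⟨ts, hl, rfl⟩ := ih g' hg'
    exact ⟨t :: ts, by simp [hl], by simp⟩

include h in
theorem pairwise_posList : T.posList.Pairwise (fun a b => a.val < b.val) :=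
  (List.pairwise_lt_finRange T.tab.n).filter _

include h in
theorem mem_U_exists {g : ↥(D.group F) × ↥(D.group F)} (hg : g ∈ h.datum.rel.U) :
    ∃ ts : List F, ts.length = T.posList.length ∧
      g = (List.zipWith h.datum.pairX T.posList ts).prod := by
  refine ordProd_zip _ _ _ (ordProd_of_mem_gens (fun r a b => h.datum.rel.x_add r a b) _
    (h.collects _ (List.Sublist.refl _) (fun _ _ c hc _ => h.mem_posList hc) h.pairwise_posList) g ?_)
  refine Subgroup.closure_mono ?_ hg
  rintro _ ⟨r, t, hr, rfl⟩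
  exact ⟨r, h.mem_posList hr, t, rfl⟩

end IsoHyp

/-- Ordered products of positive root elements determine their parameters. -/
def UniqueForm {D : ChevalleyDatum} (T : Model D) {F : Type*} [Field F] (K : Rels D F) : Prop :=
  ∀ ts : List F, ts.length = T.posList.length →
    (List.zipWith (T.rel K).x T.posList ts).prod = 1 → ∀ t ∈ ts, t = 0

namespace IsoHyp

variable {D : ChevalleyDatum} {T : Model D} {F : Type*} [Field F] {K : Rels D F}
  {P : IsoData} {e : ℕ} (h : IsoHyp T K P e)

include h in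
/-- Over a finite field the ordered products are different, by the order of `U`. -/
theorem prod_inj [Finite F] {w : List (Fin T.tab.l)} (hw : T.longestB w = true)
    (hpos : Mat.spanB D (T.posList.map Fin.val) = true) (hlen : w.length = T.posList.length) :
    Function.Injective (fun v : Fin T.posList.length → F =>
      (List.zipWith (T.rel K).x T.posList (List.ofFn v)).prod) := by
  set N := T.posList.length with hN
  let f : (Fin N → F) → ↥(T.rel K).U := fun v =>
    ⟨(List.zipWith (T.rel K).x T.posList (List.ofFn v)).prod, by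
      refine Subgroup.list_prod_mem _ fun y hy => ?_
      obtain ⟨i, hi, rfl⟩ := List.mem_iff_getElem.1 hy
      rw [List.getElem_zipWith]
      refine (T.rel K).x_mem_U ?_ _
      exact of_decide_eq_true
        (List.mem_filter.1 (List.getElem_mem (show i < T.posList.length by
          rw [List.length_zipWith] at hi; omega))).2⟩
  have hfst : ∀ r t, (h.datum.pairX r t).1 = (T.rel K).x r t := fun r t => rfl
  have hsurj : Function.Surjective f := by
    rintro ⟨u, hu⟩
    obtain ⟨g, hg, rfl⟩ : ∃ g ∈ h.datum.rel.U, g.1 = u := by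
      suffices u ∈ h.datum.rel.U.map (MonoidHom.fst _ _) by
        obtain ⟨g, hg, e1⟩ := this; exact ⟨g, hg, e1⟩
      refine (Subgroup.closure_le _).2 ?_ hu
      rintro _ ⟨r, t, hr, rfl⟩
      exact ⟨_, h.datum.rel.x_mem_U hr t, hfst r t⟩
    obtain ⟨ts, hl, rfl⟩ := h.mem_U_exists hg
    refine ⟨fun i => ts[i.val]'(hl ▸ i.isLt), Subtype.ext ?_⟩
    have e2 : List.ofFn (fun i : Fin N => ts[i.val]'(hl ▸ i.isLt)) = ts :=
      List.ext_getElem (by simp [hl, hN]) fun i h1 h2 => by simp
    show (List.zipWith (T.rel K).x T.posList (List.ofFn fun i : Fin N => ts[i.val]'(hl ▸ i.isLt))).prod =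
      (List.zipWith h.datum.pairX T.posList ts).prod.1
    rw [e2]
    refine ((map_list_prod (MonoidHom.fst (↥(D.group F)) (↥(D.group F))) _).trans ?_).symm
    rw [List.map_zipWith]
    rfl
  have hcard : Nat.card (Fin N → F) = Nat.card ↥(T.rel K).U := by
    rw [← T.card_U_eq K, T.card_posUnipotent K hw hpos, hlen, Nat.card_fun, Nat.card_fin]
  haveI : Finite ↥(T.rel K).U := Finite.of_surjective f hsurj
  have hinj := ((Nat.bijective_iff_surjective_and_card f).2 ⟨hsurj, hcard⟩).1
  exact fun v v' e1 => hinj (Subtype.ext e1)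

include h in
/-- Over a finite field the unique form follows from the order of `U`. -/
theorem uniqueForm [Finite F] {w : List (Fin T.tab.l)} (hw : T.longestB w = true)
    (hpos : Mat.spanB D (T.posList.map Fin.val) = true) (hlen : w.length = T.posList.length) :
    UniqueForm T K := by
  intro ts hl h1 t ht
  have e2 : List.ofFn (fun i : Fin T.posList.length => ts[i.val]'(lt_of_lt_of_eq i.isLt hl.symm)) = ts :=
    List.ext_getElem (by simp [hl]) fun i h1 h2 => by simp
  have hv := h.prod_inj hw hpos hlen (a₁ := fun i => ts[i.val]'(lt_of_lt_of_eq i.isLt hl.symm)) (a₂ := fun _ => 0) (by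
    show (List.zipWith (T.rel K).x T.posList _).prod = (List.zipWith (T.rel K).x T.posList _).prod
    rw [e2, h1]
    symm
    refine List.prod_eq_one fun y hy => ?_
    obtain ⟨i, hi, rfl⟩ := List.mem_iff_getElem.1 hy
    rw [List.getElem_zipWith, List.getElem_ofFn]
    exact (T.rel K).x_zero _)
  obtain ⟨i, hi, rfl⟩ := List.mem_iff_getElem.1 ht
  exact congrFun hv ⟨i, lt_of_lt_of_eq hi hl⟩

include h in
theorem x_injective (r : Fin T.tab.n) : Function.Injective ((T.rel K).x r) := by
  intro a b hab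
  have : (T.rel K).x r (a - b) = 1 := by
    rw [sub_eq_add_neg, (T.rel K).x_add, (T.rel K).x_neg, hab, mul_inv_cancel]
  exact sub_eq_zero.1 (T.x_ne K r _ this)

include h in
theorem pos_of_B (hpos : Mat.spanB D (T.posList.map Fin.val) = true) (w : List (Fin T.tab.l))
    (hw : (T.rel K).nw w ∈ (T.rel K).B) (r : Fin T.tab.n) (hr : T.S.pos r) :
    T.S.pos (T.S.actw w r) := by
  obtain ⟨s, hs, e1⟩ := (T.shapeR K).image_of_cell_eq (T := T.S.pos) (P := (T.rel K).B)
    (fun p hp => (T.shapeR K).pres_par (J := []) (fun r t hr => T.pres_posList K hpos r t hr)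
      (fun j hj => by simp at hj) ((T.rel K).B_le_par _ hp)) (w := w) (v := [])
    (by rw [cell_one le_rfl hw, (T.rel K).nw_nil, cell_one le_rfl (one_mem _)]) r hr
  rw [e1]
  exact hs

include h in
/-- The endomorphism. -/
theorem exists_hom {wit : List (List (Fin T.tab.l) × Fin T.tab.l)} (hwit : T.witB wit = true)
    (hpos : Mat.spanB D (T.posList.map Fin.val) = true) (hU : UniqueForm T K) :
    ∃ α : ↥(D.group F) →* ↥(D.group F), ∀ (r : Fin T.tab.n) (t : F),
      α ((T.rel K).x r t) = (T.rel K).x (h.ρF r) ((P.ef r.val : F) * t ^ lam P e r.val) := by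
  have hin : h.datum.Input :=
    { generated := h.datum.rel.x_mem_gen (T.witness hwit)
      pos_of_B := h.pos_of_B hpos
      U_inter_H := fun g hu hh => (T.shapeR K).U_inter_H hu hh
      injective := h.x_injective
      faithful := fun g hg hc => T.faithful K hg fun r t => hc r t
      U_one := by
        intro g hg h1
        obtain ⟨ts, hl, rfl⟩ := h.mem_U_exists hg
        have e1 : (List.zipWith (T.rel K).x T.posList ts).prod = 1 := by
          refine Eq.trans ?_ h1
          refine ((map_list_prod (MonoidHom.fst (↥(D.group F)) (↥(D.group F))) _).trans ?_).symm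
          rw [List.map_zipWith]
          rfl
        have h0 := hU ts hl e1
        refine List.prod_eq_one fun y hy => ?_
        obtain ⟨i, hi, rfl⟩ := List.mem_iff_getElem.1 hy
        rw [List.getElem_zipWith, h0 _ (List.getElem_mem _)]
        exact h.datum.rel.x_zero _ }
  obtain ⟨α, hα⟩ := h.datum.exists_endo hin
  have htop : Subgroup.closure {g | ∃ r t, g = (T.rel K).x r t} = ⊤ := by
    rw [eq_top_iff, ← T.group_top K hwit]
    have hn : ∀ r c, (T.rel K).nr r c ∈ Subgroup.closure {g | ∃ r t, g = (T.rel K).x r t} := fun r c =>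
      mul_mem (mul_mem (Subgroup.subset_closure ⟨_, _, rfl⟩) (Subgroup.subset_closure ⟨_, _, rfl⟩))
        (Subgroup.subset_closure ⟨_, _, rfl⟩)
    refine sup_le (sup_le ?_ ?_) ?_
    · exact Subgroup.closure_mono fun y ⟨r, t, _, hy⟩ => ⟨r, t, hy⟩
    · exact (Subgroup.closure_le _).2 fun y ⟨r, c, _, hy⟩ => hy ▸ mul_mem (hn _ _) (hn _ _)
    · exact (Subgroup.closure_le _).2 fun y ⟨i, hy⟩ => hy ▸ hn _ _
  refine ⟨(Subgroup.subtype _).comp (α.comp
    ((MonoidHom.id _).codRestrict _ fun g => by rw [htop]; trivial)), fun r t => ?_⟩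
  exact congrArg Subtype.val (Subtype.ext (hα ⟨(T.rel K).x r t, by rw [htop]; trivial⟩ r t rfl) : _ = (⟨_, (Subgroup.subset_closure ⟨_, _, rfl⟩)⟩ : ↥(Subgroup.closure {g | ∃ r t, g = (T.rel K).x r t})))

end IsoHyp

end Cfsg.Agent.ChevIsogeny
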