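import Cfsg.Agent.ChevIsogeny.UniqueAny
import Cfsg.Agent.ChevFixed.Field

/-!
Over a perfect field the special isogeny is an automorphism: its square is a Frobenius map.
-/

set_option autoImplicit false

namespace Cfsg.Agent.ChevIsogeny

open Cfsg.Lie ChevGroup

namespace IsoData

/-- the square of the isogeny is the `p`-th power map -/
def sqB (D : ChevalleyDatum) (P : IsoData) (p : ℕ) : Bool :=
  (List.range D.nroots).all fun r => decide (P.ρf (P.ρf r) = r) &&
    decide (P.lf r * P.lf (P.ρf r) = p) && decide (P.ef r = 1)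

end IsoData

variable {D : ChevalleyDatum} {T : Model D} {F : Type*} [Field F] {K : Rels D F} {P : IsoData}

/-- the hypotheses in characteristic `p` with `e = 1` -/
theorem isoHyp_one {p : ℕ} [Fact p.Prime] [CharP F p] (hC : CommFormula D F)
    (hbase : P.baseB D = true) (hpair : P.pairingB D = true) (hsimple : P.simpleB D = true)
    (hcol : P.collectB D = true) (hmd : P.md = p) (hlf : ∀ r, r < D.nroots → P.lf r = 1 ∨ P.lf r = p)
    {η : ℕ → ℕ → ℤ} (hsign : P.signB D η = true)
    (heta : ∀ i r, i < D.rank → r < D.nroots → K.eta i r = (η i r : F)) : IsoHyp T K P 1 := by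
  refine ⟨hC, hbase, hpair, hsimple, hcol, ?_, fun r hr a b => ?_, fun r hr z => ?_, ⟨η, hsign, heta⟩⟩
  · rw [hmd]; exact CharP.cast_eq_zero F p
  · rw [mul_one]
    rcases hlf r hr with h | h <;> rw [h]
    · simp
    · exact add_pow_char a b p
  · rw [mul_one]
    rcases hlf r hr with h | h <;> rw [h]
    · simp
    · have := map_intCast (frobenius F p) z
      rwa [frobenius_def] at this

/-- The automorphism. -/
theorem exists_auto {p : ℕ} [Fact p.Prime] [CharP F p] (hperf : ∀ x : F, ∃ y : F, y ^ p = x)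
    (h : IsoHyp T K P 1) (hsq : P.sqB D p = true) (hlf : ∀ r, r < D.nroots → P.lf r = 1 ∨ P.lf r = p)
    {wit : List (List (Fin T.tab.l) × Fin T.tab.l)}
    (hwit : T.witB wit = true) (hpos : Mat.spanB D (T.posList.map Fin.val) = true)
    (hU : UniqueForm T K) :
    ∃ α : ↥(D.group F) ≃* ↥(D.group F), ∀ (r : ℕ) (hr : r < D.nroots) (g : ↥(D.group F)) (t : F),
      ((g : GL D.Idx F) : Matrix D.Idx D.Idx F) = D.x F r t →
      ((α g : GL D.Idx F) : Matrix D.Idx D.Idx F) = D.x F (P.ρf r) (t ^ P.lf r) := by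
  obtain ⟨α, hα⟩ := h.exists_hom hwit hpos hU
  simp only [IsoData.sqB, List.all_eq_true, Bool.and_eq_true, decide_eq_true_eq, List.mem_range] at hsq
  have hlam : ∀ r : ℕ, IsoHyp.lam P 1 r = P.lf r := fun r => mul_one _
  have hx : ∀ (r : Fin T.tab.n) (t : F),
      α ((T.rel K).x r t) = (T.rel K).x (h.ρF r) (t ^ P.lf r.val) := fun r t => by
    rw [hα, (hsq r.val (T.lt r)).2, Int.cast_one, one_mul, hlam]
  -- the generators
  have htop : Subgroup.closure {g | ∃ r t, g = (T.rel K).x r t} = ⊤ := by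
    rw [eq_top_iff]
    rintro ⟨g, hg⟩ -
    have hle : D.group F ≤ (Subgroup.closure {g | ∃ r t, g = (T.rel K).x r t}).map (D.group F).subtype := by
      refine (Subgroup.closure_le _).2 ?_
      rintro y ⟨r, t, hy⟩
      refine ⟨(T.rel K).x ⟨r.val, T.n_eq.symm ▸ r.isLt⟩ t, Subgroup.subset_closure ⟨_, _, rfl⟩, Units.ext ?_⟩
      exact (T.mat_xG K _ t).trans (((dif_pos r.isLt).trans (hy.symm)))
    obtain ⟨z, hz, e⟩ := hle hg
    rwa [show z = ⟨g, hg⟩ from Subtype.ext e] at hz
  -- the square is the Frobenius map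
  have hsqr : α.comp α = ChevFixed.mapGroup (frobenius F p) := by
    refine MonoidHom.eq_of_eqOn_dense htop ?_
    rintro _ ⟨r, t, rfl⟩
    rw [MonoidHom.comp_apply, hx, hx, ChevFixed.mapGroup_x, frobenius_def, ← pow_mul]
    congr 1
    · exact Fin.ext (hsq r.val (T.lt r)).1.1
    · exact congrArg _ (hsq r.val (T.lt r)).1.2
  have hinj : Function.Injective α := by
    intro a b e
    refine ChevFixed.mapGroup_injective (frobenius F p) ?_
    rw [← hsqr, MonoidHom.comp_apply, MonoidHom.comp_apply, e]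
  have hsurj : Function.Surjective α := by
    rw [← MonoidHom.range_eq_top, eq_top_iff, ← htop, Subgroup.closure_le]
    rintro _ ⟨r, t, rfl⟩
    obtain ⟨u, hu⟩ : ∃ u : F, u ^ P.lf (h.ρF r).val = t := by
      rcases hlf _ (T.lt (h.ρF r)) with e | e <;> rw [e]
      · exact ⟨t, pow_one t⟩
      · exact hperf t
    refine ⟨(T.rel K).x (h.ρF r) u, ?_⟩
    rw [hx, hu, show h.ρF (h.ρF r) = r from Fin.ext (hsq r.val (T.lt r)).1.1]
  refine ⟨MulEquiv.ofBijective α ⟨hinj, hsurj⟩, fun r hr g t e => ?_⟩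
  have hg : g = (T.rel K).x ⟨r, T.n_eq.symm ▸ hr⟩ t := Model.mat_inj (e.trans (T.mat_xG K ⟨r, T.n_eq.symm ▸ hr⟩ t).symm)
  show (((α g : ↥(D.group F)) : GL D.Idx F) : Matrix D.Idx D.Idx F) = _
  rw [hg, hx]
  exact T.mat_xG K _ _

end Cfsg.Agent.ChevIsogeny
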