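import Cfsg.Agent.ChevGroup.Shape
import Cfsg.Agent.ChevGroup.Exchange

/-!
Abstract construction of a special isogeny: the subgroup of `G × G` generated by the pairs
`(x_r(t), x_{ρ r}(ε r * t ^ λ r))` satisfies the relations of the Bruhat machinery and projects injectively
onto the first factor, so it is the graph of an endomorphism.
-/

set_option autoImplicit false

namespace Cfsg.Agent.ChevIsogeny

open ChevGroup

variable {Φ I : Type*} {G : Type*} [Group G] {F : Type*} [Field F] {S : RootIdx Φ I}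

section Ordered

variable {A : Type*} [Group A] {K : Type*} [AddGroup K] (y : Φ → K → A)

/-- the subgroup generated by the root groups in a list -/
def gens (L : List Φ) : Subgroup A := Subgroup.closure {g | ∃ r ∈ L, ∃ t, g = y r t}

/-- the ordered products over a list -/
def OrdProd : List Φ → A → Prop
  | [], g => g = 1
  | r :: L, g => ∃ t g', OrdProd L g' ∧ g = y r t * g'

/-- each root group normalises the group generated by the later ones -/
def Collects : List Φ → Prop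
  | [] => True
  | r :: L => Collects L ∧ ∀ s ∈ L, ∀ t u, y r t * y s u * (y r t)⁻¹ ∈ gens y L

variable {y}

theorem ordProd_of_mem_gens (hadd : ∀ r a b, y r (a + b) = y r a * y r b) :
    ∀ (L : List Φ), Collects y L → ∀ g ∈ gens y L, OrdProd y L g := by
  intro L
  induction L with
  | nil =>
    intro _ g hg
    have : gens y ([] : List Φ) = ⊥ := by simp [gens]
    simpa [this, OrdProd] using hg
  | cons r L ih =>
    rintro ⟨hL, hr⟩
    have h0 : y r 0 = 1 := by
      have h := hadd r 0 0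
      rw [add_zero] at h
      exact left_eq_mul.1 h
    have hneg : ∀ t, (y r t)⁻¹ = y r (-t) := fun t => by
      refine inv_eq_of_mul_eq_one_right ?_
      rw [← hadd, add_neg_cancel, h0]
    have hconj : ∀ t, ∀ g ∈ gens y L, y r t * g * (y r t)⁻¹ ∈ gens y L := by
      intro t g hg
      induction hg using Subgroup.closure_induction with
      | mem g hg => obtain ⟨s, hs, u, rfl⟩ := hg; exact hr s hs t u
      | one => simp
      | mul a b _ _ ha hb => simpa [mul_assoc] using mul_mem ha hb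
      | inv a _ ha => simpa [mul_assoc] using inv_mem ha
    have key : ∀ g ∈ gens y (r :: L), ∃ t, ∃ g' ∈ gens y L, g = y r t * g' := by
      intro g hg
      induction hg using Subgroup.closure_induction with
      | mem g hg =>
        obtain ⟨s, hs, u, rfl⟩ := hg
        rcases List.mem_cons.1 hs with rfl | hs
        · exact ⟨u, 1, one_mem _, (mul_one _).symm⟩
        · exact ⟨0, y s u, Subgroup.subset_closure ⟨s, hs, u, rfl⟩, by simp [h0]⟩
      | one => exact ⟨0, 1, one_mem _, by simp [h0]⟩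
      | mul a b _ _ ha hb =>
        obtain ⟨s, a', ha', rfl⟩ := ha
        obtain ⟨t, b', hb', rfl⟩ := hb
        refine ⟨s + t, (y r (-t) * a' * (y r (-t))⁻¹) * b', mul_mem (hconj _ _ ha') hb', ?_⟩
        rw [hadd, ← hneg]; group
      | inv a _ ha =>
        obtain ⟨s, a', ha', rfl⟩ := ha
        refine ⟨-s, y r s * a'⁻¹ * (y r s)⁻¹, hconj _ _ (inv_mem ha'), ?_⟩
        rw [← hneg]; group
    intro g hg
    obtain ⟨t, g', hg', rfl⟩ := key g hg
    exact ⟨t, g', ih hL g' hg', rfl⟩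

end Ordered

/-- Data for a special isogeny of the relations `R`. -/
structure Datum (R : RootRel G F S) where
  ρ : Φ → Φ
  ρI : I → I
  lam : Φ → ℕ
  eps : Φ → F
  eps_sq : ∀ r, eps r * eps r = 1
  eps_neg : ∀ r, eps (S.neg r) = eps r
  eps_simple : ∀ i, eps (S.simple i) = 1
  ρ_surj : Function.Surjective ρ
  ρ_neg : ∀ r, ρ (S.neg r) = S.neg (ρ r)
  ρ_simple : ∀ i, ρ (S.simple i) = S.simple (ρI i)
  ρ_refl : ∀ i r, ρ (S.refl i r) = S.refl (ρI i) (ρ r)
  lam_neg : ∀ r, lam (S.neg r) = lam r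
  lam_refl : ∀ i r, lam (S.refl i r) = lam r
  add_pow : ∀ r (a b : F), (a + b) ^ lam r = a ^ lam r + b ^ lam r
  neg_pow : ∀ r (a : F), (-a) ^ lam r = -(a ^ lam r)
  sgn_eq : ∀ i r, eps (S.refl i r) * R.sgn i r ^ lam r = R.sgn (ρI i) (ρ r) * eps r
  /-- the exponent with which `h_r(c)` scales `x_s` -/
  pw : Φ → Φ → ℤ
  scale_conj : ∀ r c s t, c ≠ 0 →
    R.hr r c * R.x s t * (R.hr r c)⁻¹ = R.x s (c ^ pw r s * t)
  pw_eq : ∀ r s, pw (ρ r) (ρ s) * lam r = pw r s * lam s
  /-- membership of commutators in the unipotent subgroup, simultaneously in both factors -/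
  comm : ∀ i s t u, S.pos s → s ≠ S.simple i →
    (R.x (S.simple i) t * R.x s u * R.x (S.simple i) (-t),
      R.x (S.simple (ρI i)) (t ^ lam (S.simple i)) * R.x (ρ s) (eps s * u ^ lam s) *
        R.x (S.simple (ρI i)) ((-t) ^ lam (S.simple i))) ∈
      uOther S.pos (fun r t => (R.x r t, R.x (ρ r) (eps r * t ^ lam r))) (S.simple i)

namespace Datum

variable {R : RootRel G F S} (D : Datum R)

/-- the paired root element -/
def pairX (r : Φ) (t : F) : G × G := (R.x r t, R.x (D.ρ r) (D.eps r * t ^ D.lam r))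

theorem eps_ne (r : Φ) : D.eps r ≠ 0 := fun h => by simpa [h] using D.eps_sq r

theorem eps_inv (r : Φ) : (D.eps r)⁻¹ = D.eps r := inv_eq_of_mul_eq_one_left (D.eps_sq r)

theorem nOf_pairX (r : Φ) (c : F) :
    nOf S.neg D.pairX r c = (R.nr r c, R.nr (D.ρ r) (D.eps r * c ^ D.lam r)) := by
  simp [nOf, pairX, RootRel.nr, D.ρ_neg, D.lam_neg, D.neg_pow, inv_pow, D.eps_neg, mul_comm,
    D.eps_inv]

theorem hOf_pairX (r : Φ) (c : F) :
    hOf S.neg D.pairX r c = (R.hr r c,
      R.hr (D.ρ r) (D.eps r * c ^ D.lam r) * (R.hr (D.ρ r) (D.eps r))⁻¹) := by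
  simp only [hOf, nOf_pairX, Prod.mk_mul_mk]
  rw [D.neg_pow, one_pow, mul_neg, mul_one, ← R.nr_inv r 1, ← R.nr_inv (D.ρ r) (D.eps r),
    R.nr_eq _ (D.eps r * c ^ D.lam r),
    R.nr_eq _ (D.eps r), mul_inv_rev]
  simp [RootRel.hr, hOf, RootRel.nr, mul_assoc]
  exact R.nr_inv r 1

theorem zpow_pow_lam (r : Φ) (c : F) (s : Φ) :
    (c ^ D.lam r) ^ D.pw (D.ρ r) (D.ρ s) = (c ^ D.pw r s) ^ D.lam s := by
  rw [← zpow_natCast c, ← zpow_mul, ← zpow_natCast (c ^ D.pw r s), ← zpow_mul, mul_comm, D.pw_eq]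

theorem snd_scales (r : Φ) (c : F) (hc : c ≠ 0) (s : Φ) (v : F) :
    (hOf S.neg D.pairX r c).2 * R.x (D.ρ s) v * (hOf S.neg D.pairX r c).2⁻¹ =
      R.x (D.ρ s) ((c ^ D.pw r s) ^ D.lam s * v) := by
  rw [D.hOf_pairX]
  set e := D.eps r with he
  have hz : e ^ D.pw (D.ρ r) (D.ρ s) ≠ 0 := zpow_ne_zero _ (D.eps_ne r)
  have h1 := D.scale_conj (D.ρ r) (e * c ^ D.lam r) (D.ρ s)
    ((e ^ D.pw (D.ρ r) (D.ρ s))⁻¹ * v) (mul_ne_zero (D.eps_ne r) (pow_ne_zero _ hc))
  have h2 := D.scale_conj (D.ρ r) e (D.ρ s) ((e ^ D.pw (D.ρ r) (D.ρ s))⁻¹ * v) (D.eps_ne r)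
  rw [← mul_assoc, mul_inv_cancel₀ hz, one_mul] at h2
  rw [mul_zpow, D.zpow_pow_lam, ← mul_assoc,
    show e ^ D.pw (D.ρ r) (D.ρ s) * (c ^ D.pw r s) ^ D.lam s * (e ^ D.pw (D.ρ r) (D.ρ s))⁻¹ =
      (c ^ D.pw r s) ^ D.lam s by field_simp] at h1
  rw [← h1, ← h2]
  simp [mul_assoc]

theorem fst_scales (r : Φ) (c : F) (hc : c ≠ 0) (s : Φ) (v : F) :
    (hOf S.neg D.pairX r c).1 * R.x s v * (hOf S.neg D.pairX r c).1⁻¹ =
      R.x s (c ^ D.pw r s * v) := by
  rw [D.hOf_pairX]; exact D.scale_conj r c s v hc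

theorem scales_pair (r : Φ) (c : F) (hc : c ≠ 0) (s : Φ) (t : F) :
    hOf S.neg D.pairX r c * D.pairX s t * (hOf S.neg D.pairX r c)⁻¹ =
      D.pairX s (c ^ D.pw r s * t) := by
  refine Prod.ext (D.fst_scales r c hc s t) ((D.snd_scales r c hc s _).trans ?_)
  show R.x (D.ρ s) _ = R.x (D.ρ s) (D.eps s * (c ^ D.pw r s * t) ^ D.lam s)
  rw [mul_pow]; ring_nf

/-- the relations in the product -/
def rel : RootRel (G × G) F S where
  x := D.pairX
  x_add r a b := by simp [pairX, R.x_add, D.add_pow, mul_add]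
  sgn := R.sgn
  sgn_sq := R.sgn_sq
  sgn_neg := R.sgn_neg
  n_conj i r t := by
    rw [D.nOf_pairX]
    refine Prod.ext (R.n_conj i r t) ?_
    show R.nr (D.ρ (S.simple i)) (D.eps (S.simple i) * 1 ^ D.lam _) *
      R.x (D.ρ r) (D.eps r * t ^ D.lam r) *
      (R.nr (D.ρ (S.simple i)) (D.eps (S.simple i) * 1 ^ D.lam _))⁻¹ = _
    rw [one_pow, D.eps_simple, one_mul, D.ρ_simple]
    refine (R.n_conj _ _ _).trans ?_
    simp only [pairX, D.lam_refl, D.ρ_refl, mul_pow]
    rw [← mul_assoc, ← mul_assoc, D.sgn_eq]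
  h_conj r c s hc :=
    ⟨c ^ D.pw r s, zpow_ne_zero _ hc, fun t => D.scales_pair r c hc s t⟩
  comm_mem i s t u hs hne := by
    have := D.comm i s t u hs hne
    simp only [pairX, D.ρ_simple, D.eps_simple, one_mul, Prod.mk_mul_mk]
    exact this

theorem rel_x (r : Φ) (t : F) :
    D.rel.x r t = (R.x r t, R.x (D.ρ r) (D.eps r * t ^ D.lam r)) := rfl

theorem fst_n (i : I) : (D.rel.n i).1 = R.n i := by
  show (nOf S.neg D.pairX (S.simple i) 1).1 = _
  rw [D.nOf_pairX]; rfl

theorem fst_nw (w : List I) : (D.rel.nw w).1 = R.nw w := by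
  induction w with
  | nil => simp
  | cons i w ih => simp [D.fst_n, ih]

theorem fst_mem_U {g : G × G} (hg : g ∈ D.rel.U) : g.1 ∈ R.U := by
  refine (Subgroup.closure_le (K := R.U.comap (MonoidHom.fst G G))).2 ?_ hg
  rintro _ ⟨r, t, hr, rfl⟩
  exact R.x_mem_U hr t

theorem fst_mem_H {g : G × G} (hg : g ∈ D.rel.H) : g.1 ∈ R.H := by
  refine (Subgroup.closure_le (K := R.H.comap (MonoidHom.fst G G))).2 ?_ hg
  rintro _ ⟨r, c, hc, rfl⟩
  show (hOf S.neg D.pairX r c).1 ∈ R.H
  rw [D.hOf_pairX]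
  exact R.hr_mem_H hc

theorem snd_mem_H {g : G × G} (hg : g ∈ D.rel.H) : g.2 ∈ R.H := by
  refine (Subgroup.closure_le (K := R.H.comap (MonoidHom.snd G G))).2 ?_ hg
  rintro _ ⟨r, c, hc, rfl⟩
  show (hOf S.neg D.pairX r c).2 ∈ R.H
  rw [D.hOf_pairX]
  exact mul_mem (R.hr_mem_H (mul_ne_zero (D.eps_ne r) (pow_ne_zero _ hc)))
    (inv_mem (R.hr_mem_H (D.eps_ne r)))

theorem fst_mem_B {g : G × G} (hg : g ∈ D.rel.B) : g.1 ∈ R.B := by
  obtain ⟨u, hu, h, hh, rfl⟩ := D.rel.mem_B_iff.1 hg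
  exact mul_mem (R.U_le_B (D.fst_mem_U hu)) (R.H_le_B (D.fst_mem_H hh))

/-- The torus part: the first component determines the second. -/
theorem H_eq_one (hinj : ∀ r, Function.Injective (R.x r))
    (hfaith : ∀ h ∈ R.H, (∀ r t, Commute h (R.x r t)) → h = 1)
    {g : G × G} (hg : g ∈ D.rel.H) (h1 : g.1 = 1) : g = 1 := by
  refine Prod.ext h1 (hfaith _ (D.snd_mem_H hg) fun r t => ?_)
  obtain ⟨s, rfl⟩ := D.ρ_surj r
  obtain ⟨a, _, ha⟩ := D.rel.H_scales hg s
  have e : a = 1 := by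
    have h' := congrArg Prod.fst (ha 1)
    simp only [D.rel_x, Prod.fst_mul, Prod.fst_inv, h1, one_mul, inv_one, mul_one] at h'
    exact (hinj s h').symm
  -- the second factor scales by the power of `a`, which is `1`
  have hs : ∀ v : F, g.2 * R.x (D.ρ s) v * g.2⁻¹ = R.x (D.ρ s) v := by
    have key : ∀ {g : G × G}, g ∈ D.rel.H → ∀ s, ∃ a : F,
        (∀ v, g.1 * R.x s v * g.1⁻¹ = R.x s (a * v)) ∧
        ∀ v, g.2 * R.x (D.ρ s) v * g.2⁻¹ = R.x (D.ρ s) (a ^ D.lam s * v) := by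
      intro g hg
      induction hg using Subgroup.closure_induction with
      | mem g hg =>
        obtain ⟨r, c, hc, rfl⟩ := hg
        intro s
        exact ⟨c ^ D.pw r s, D.fst_scales r c hc s, D.snd_scales r c hc s⟩
      | one => intro s; exact ⟨1, by simp, by simp⟩
      | mul a b _ _ ha hb =>
        intro s
        obtain ⟨p, hp1, hp2⟩ := ha s
        obtain ⟨q, hq1, hq2⟩ := hb s
        refine ⟨p * q, fun v => ?_, fun v => ?_⟩
        · rw [mul_assoc p, ← hp1, ← hq1]; simp [mul_assoc]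
        · rw [mul_pow, mul_assoc (p ^ _), ← hp2, ← hq2]; simp [mul_assoc]
      | inv a _ ha =>
        intro s
        obtain ⟨p, hp1, hp2⟩ := ha s
        by_cases hp : p = 0
        · exfalso
          have e1 := hp1 1
          rw [hp, zero_mul, R.x_zero] at e1
          have e2 : R.x s 1 = R.x s 0 := by
            rw [R.x_zero]; simpa using e1
          exact one_ne_zero (hinj s e2)
        refine ⟨p⁻¹, fun v => ?_, fun v => ?_⟩
        · have := hp1 (p⁻¹ * v)
          rw [← mul_assoc p, mul_inv_cancel₀ hp, one_mul] at this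
          rw [← this]; simp [mul_assoc]
        · have := hp2 ((p ^ D.lam s)⁻¹ * v)
          rw [← mul_assoc _ _ v, mul_inv_cancel₀ (pow_ne_zero _ hp), one_mul] at this
          rw [inv_pow, ← this]; simp [mul_assoc]
    intro v
    obtain ⟨b, hb1, hb2⟩ := key hg s
    have : b = 1 := by
      have h' := hb1 1
      rw [h1, one_mul, inv_one, mul_one, mul_one] at h'
      exact (hinj s h').symm
    simpa [this] using hb2 v
  exact (mul_inv_eq_iff_eq_mul.1 (hs t))

/-- What is needed to see that the first projection is injective. -/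
structure Input (D : Datum R) : Prop where
  generated : ∀ r t, D.rel.x r t ∈ D.rel.B ⊔ Subgroup.closure (Set.range D.rel.n)
  pos_of_B : ∀ w : List I, R.nw w ∈ R.B → ∀ r, S.pos r → S.pos (S.actw w r)
  U_inter_H : ∀ g ∈ R.U, g ∈ R.H → g = 1
  injective : ∀ r, Function.Injective (R.x r)
  faithful : ∀ h ∈ R.H, (∀ r t, Commute h (R.x r t)) → h = 1
  U_one : ∀ g ∈ D.rel.U, g.1 = 1 → g = 1

/-- the subgroup generated by the pairs -/
def graph : Subgroup (G × G) := Subgroup.closure {g | ∃ r t, g = D.rel.x r t}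

theorem graph_fst_injective (h : D.Input) {g : G × G}
    (hg : g ∈ D.graph) (h1 : g.1 = 1) : g = 1 := by
  have hle : D.graph ≤ D.rel.B ⊔ Subgroup.closure (Set.range D.rel.n) :=
    (Subgroup.closure_le _).2 fun _ ⟨r, t, e⟩ => e ▸ h.generated r t
  obtain ⟨b, hb, w, hw, b', hb', rfl⟩ := D.rel.exists_bruhat (hle hg)
  have hgB : b * D.rel.nw w * b' ∈ D.rel.B := by
    cases w with
    | nil => simpa using mul_mem hb hb'
    | cons i u =>
      exfalso
      have hmem : R.nw (i :: u) ∈ R.B := by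
        simp only [Prod.fst_mul, D.fst_nw] at h1
        have e : R.nw (i :: u) = b.1⁻¹ * b'.1⁻¹ :=
          calc R.nw (i :: u) = b.1⁻¹ * (b.1 * R.nw (i :: u) * b'.1) * b'.1⁻¹ := by group
            _ = b.1⁻¹ * b'.1⁻¹ := by rw [h1]; simp
        rw [e]
        exact mul_mem (inv_mem (D.fst_mem_B hb)) (inv_mem (D.fst_mem_B hb'))
      obtain ⟨hp, he⟩ := S.red_cons_root hw
      have h3 := h.pos_of_B _ hmem _ hp
      rw [he] at h3
      exact S.not_pos_neg _ (S.simple_pos i) h3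
  revert h1
  generalize b * D.rel.nw w * b' = g at hgB
  intro h1
  obtain ⟨u, hu, t, ht, rfl⟩ := D.rel.mem_B_iff.1 hgB
  have e : u.1 = t.1⁻¹ := eq_inv_of_mul_eq_one_left h1
  have hu1 : u.1 = 1 := h.U_inter_H _ (D.fst_mem_U hu) (e ▸ inv_mem (D.fst_mem_H ht))
  have ht1 : t.1 = 1 := by simpa [hu1] using e.symm
  rw [h.U_one u hu hu1, D.H_eq_one h.injective h.faithful ht ht1, one_mul]

/-- The endomorphism of the group generated by the root elements. -/
theorem exists_endo (h : D.Input) :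
    ∃ α : ↥(Subgroup.closure {g | ∃ r t, g = R.x r t}) →*
        ↥(Subgroup.closure {g | ∃ r t, g = R.x r t}),
      ∀ (g : ↥(Subgroup.closure {g | ∃ r t, g = R.x r t})) (r : Φ) (t : F),
        (g : G) = R.x r t → (α g : G) = R.x (D.ρ r) (D.eps r * t ^ D.lam r) := by
  set T : Subgroup G := Subgroup.closure {g | ∃ r t, g = R.x r t} with hT
  have h1 : ∀ g ∈ D.graph, g.1 ∈ T ∧ g.2 ∈ T := by
    intro g hg
    refine (Subgroup.closure_le (K := T.prod T)).2 ?_ hg
    rintro _ ⟨r, t, rfl⟩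
    exact ⟨Subgroup.subset_closure ⟨r, t, rfl⟩, Subgroup.subset_closure ⟨_, _, rfl⟩⟩
  let f : D.graph →* T :=
    ((MonoidHom.fst G G).comp D.graph.subtype).codRestrict T fun g => (h1 g g.2).1
  let s : D.graph →* T :=
    ((MonoidHom.snd G G).comp D.graph.subtype).codRestrict T fun g => (h1 g g.2).2
  have hfi : Function.Injective f := by
    rw [injective_iff_map_eq_one]
    intro g hg
    exact Subtype.ext (D.graph_fst_injective h g.2 (congrArg Subtype.val hg))
  have hfs : Function.Surjective f := by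
    rintro ⟨g, hg⟩
    suffices g ∈ D.graph.map (MonoidHom.fst G G) by
      obtain ⟨y, hy, e⟩ := this
      exact ⟨⟨y, hy⟩, Subtype.ext e⟩
    refine (Subgroup.closure_le _).2 ?_ hg
    rintro _ ⟨r, t, rfl⟩
    exact ⟨D.rel.x r t, Subgroup.subset_closure ⟨r, t, rfl⟩, rfl⟩
  refine ⟨s.comp (MulEquiv.ofBijective f ⟨hfi, hfs⟩).symm.toMonoidHom, fun g r t e => ?_⟩
  have hg : (⟨D.rel.x r t, Subgroup.subset_closure ⟨r, t, rfl⟩⟩ : D.graph) =
      (MulEquiv.ofBijective f ⟨hfi, hfs⟩).symm g := by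
    rw [MulEquiv.eq_symm_apply]
    exact Subtype.ext e.symm
  show ((s ((MulEquiv.ofBijective f ⟨hfi, hfs⟩).symm g) : T) : G) = _
  rw [← hg]
  rfl

end Datum

end Cfsg.Agent.ChevIsogeny
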