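import Cfsg.Agent.ChevIsogeny.Endo
import Cfsg.Agent.KnownSimple.Steinberg.Gen.Inj

/-!
Over every field the ordered products of positive root elements determine their parameters, by the
coordinates that the later root elements keep.
-/

set_option autoImplicit false

namespace Cfsg.Agent.ChevIsogeny

open Cfsg.Lie ChevGroup
open Cfsg.Agent.KnownSimple.Steinberg.Gen

/-- every tail of the list keeps its coordinates and misses its head -/
noncomputable def tailsK (D : ChevalleyDatum) : List ℕ → Bool :=
  fun L => List.rec true (fun r T acc => acc && !(memK T r) && spanK D (ChevCore.std D) T) L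

theorem tailsK_cons {D : ChevalleyDatum} {r : ℕ} {T : List ℕ} :
    tailsK D (r :: T) = true ↔
      tailsK D T = true ∧ r ∉ T ∧ spanK D (ChevCore.std D) T = true := by
  show (tailsK D T && !(memK T r) && spanK D (ChevCore.std D) T) = true ↔ _
  simp only [Bool.and_eq_true, Bool.not_eq_true', ← Bool.not_eq_true, memK_iff, and_assoc]

variable {D : ChevalleyDatum} {T : Model D} {F : Type*} [Field F] {K : Rels D F}

theorem uniqueForm_any (hS : DOK D) (h : tailsK D (T.posList.map Fin.val) = true) : UniqueForm T K := by
  suffices hs : ∀ L : List (Fin T.tab.n), tailsK D (L.map Fin.val) = true → ∀ ts : List F,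
      ts.length = L.length → (List.zipWith (T.rel K).x L ts).prod = 1 → ∀ t ∈ ts, t = 0 from
    hs _ h
  let R : Pre D F (GL D.Idx F) :=
    ⟨MonoidHom.id _, ChevCore.xg D F, fun _ _ _ => rfl, fun r _ t u => hS.good.xg_add r t u⟩
  have hx : ∀ (r : Fin T.tab.n) (t : F), (((T.rel K).x r t : ↥(D.group F)) : GL D.Idx F) =
      ChevCore.xg D F r.val t := fun r t => Units.ext (by
    rw [hS.good.val_xg]; exact T.mat_xG K r t)
  intro L
  induction L with
  | nil => intro _ ts hl _ t ht; simp at hl; simp [hl] at ht
  | cons r L ih =>
    intro hL ts hl h1 t ht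
    rw [List.map_cons, tailsK_cons] at hL
    obtain ⟨hL', hr, hspan⟩ := hL
    cases ts with
    | nil => simp at hl
    | cons a ts =>
      simp only [List.length_cons, Nat.succ.injEq] at hl
      rw [List.zipWith_cons_cons, List.prod_cons] at h1
      have hlt : ∀ v ∈ L.map Fin.val, v < D.nroots := by
        intro v hv
        obtain ⟨c, -, rfl⟩ := List.mem_map.1 hv
        exact T.lt c
      have hk : ∀ (L' : List (Fin T.tab.n)) (us : List F), (∀ c ∈ L', c ∈ L) →
          (((List.zipWith (T.rel K).x L' us).prod : ↥(D.group F)) : GL D.Idx F) ∈ R.W (L.map Fin.val) := by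
        intro L'
        induction L' with
        | nil => intro us _; simp
        | cons c L' ih' =>
          intro us hc
          cases us with
          | nil => simp
          | cons b us =>
            rw [List.zipWith_cons_cons, List.prod_cons, Subgroup.coe_mul, hx]
            exact mul_mem (R.y_mem_W (List.mem_map_of_mem (hc c (List.mem_cons_self ..))) b)
              (ih' us fun c' h' => hc c' (List.mem_cons_of_mem _ h'))
      have e : ChevCore.xg D F r.val a =
          ((((List.zipWith (T.rel K).x L ts).prod : ↥(D.group F)) : GL D.Idx F))⁻¹ := by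
        rw [← hx]
        exact eq_inv_of_mul_eq_one_left (congrArg Subtype.val h1)
      have ha : a = 0 := eq_zero_of_keep hS (T.lt r) hr (e ▸ R.keep_of_W hS hspan hlt
        (inv_mem (hk L ts fun _ hc => hc)))
      subst ha
      rw [(T.rel K).x_zero, one_mul] at h1
      rcases List.mem_cons.1 ht with rfl | ht
      · rfl
      · exact ih hL' ts hl h1 t ht

end Cfsg.Agent.ChevIsogeny
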